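import Groth.Agent.An92.FrobCorr.Basic
import Groth.Agent.EtCore45.MVExt
import Groth.Prelude.Def_FinFr

/-! Pullback with constant coefficients composes, and the absolute Frobenius acts as the identity. -/

set_option autoImplicit false
set_option backward.isDefEq.respectTransparency.types false

universe u

open CategoryTheory CategoryTheory.Limits CategoryTheory.Abelian AlgebraicGeometry Opposite
open Groth.Agent.EtCore45.MV

noncomputable section

namespace Groth.Agent.An92.FrobCorr

variable {W U X : Scheme.{u}} (M : Type) [AddCommGroup M]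

/-- The constant sheaf functor. -/
abbrev cSh (Y : Scheme.{u}) : AddCommGrpCat.{u + 1} ⥤ EtCoh.Ab Y :=
  constantSheaf Y.smallEtaleTopology AddCommGrpCat.{u + 1}

/-- Morphisms out of a constant sheaf are detected by the maps from `ℤ`. -/
theorem const_hom_ext {Y : Scheme.{u}} {M : AddCommGrpCat.{u + 1}} {A : EtCoh.Ab Y} {α β : (cSh Y).obj M ⟶ A}
    (h : ∀ g : AddCommGrpCat.of (ULift.{u + 1} ℤ) ⟶ M, (cSh Y).map g ≫ α = (cSh Y).map g ≫ β) : α = β := by
  apply ((EtCore.constAdj Y).homEquiv M A).injective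
  ext m
  let g : AddCommGrpCat.of (ULift.{u + 1} ℤ) ⟶ M :=
    AddCommGrpCat.ofHom ((zmultiplesHom _ m).comp (AddEquiv.ulift (α := ℤ)).toAddMonoidHom)
  have h1 := congrArg ((EtCore.constAdj Y).homEquiv _ A) (h g)
  rw [Adjunction.homEquiv_naturality_left, Adjunction.homEquiv_naturality_left] at h1
  have h2 := ConcreteCategory.congr_hom h1 (⟨1⟩ : ULift.{u + 1} ℤ)
  have hg : g ⟨1⟩ = m := one_zsmul m
  exact (congrArg ((EtCore.constAdj Y).homEquiv M A α) hg).symm.trans
    (h2.trans (congrArg ((EtCore.constAdj Y).homEquiv M A β) hg))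

theorem subsingleton_hom_bcTop {Y : Scheme.{u}} (f : W ⟶ Y) (V : W.Etale) :
    Subsingleton (V ⟶ (EtCoh.bc f).obj (EtCoh.top Y)) :=
  ⟨fun a b => (cancel_mono (EtCore.bcTopIso f).hom).1 ((EtCore.topIsTerminal W).hom_ext _ _)⟩

/-- Compatibility of the constant sheaf identifications with composition, integers. -/
theorem pullConst_comp_int (f : W ⟶ U) (j : U ⟶ X) (h : W ⟶ X) (w : f ≫ j = h) :
    (EtCore.pullConst f ℤ).inv ≫ (EtCoh.pull f).map (EtCore.pullConst j ℤ).inv ≫
      (((EtCore.pullComp f j).symm ≪≫ EtCore.pullCongr w).app (EtCoh.const X ℤ)).hom =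
      (EtCore.pullConst h ℤ).inv := by
  set κ := (((EtCore.pullComp f j).symm ≪≫ EtCore.pullCongr w).app (EtCoh.const X ℤ)).hom
  have hj : oneSect (EtCore.pullConst j ℤ).inv =
      ((EtCoh.pull j).obj (EtCoh.const X ℤ)).obj.map (EtCore.bcTopIso j).inv.op
        (unitSect j _ (EtCoh.top X) (oneSect (𝟙 (EtCoh.const X ℤ)))) := by
    rw [← oneSect_pull, CategoryTheory.Functor.map_id, Category.comp_id]
  have hh : oneSect (EtCore.pullConst h ℤ).inv =
      ((EtCoh.pull h).obj (EtCoh.const X ℤ)).obj.map (EtCore.bcTopIso h).inv.op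
        (unitSect h _ (EtCoh.top X) (oneSect (𝟙 (EtCoh.const X ℤ)))) := by
    rw [← oneSect_pull, CategoryTheory.Functor.map_id, Category.comp_id]
  refine (oneSect_bijective _).1 ?_
  show oneSect _ = oneSect _
  rw [← Category.assoc, oneSect_comp, oneSect_pull, hh, hj, unitSect_map]
  obtain ⟨d, hd⟩ := pullComp_unitSect j f w (EtCoh.const X ℤ) (EtCoh.top X) (oneSect (𝟙 _))
  refine ((app_map κ _ _).trans (congrArg _ (app_map κ _ _))).trans ?_
  refine (congrArg (fun z => ((EtCoh.pull h).obj (EtCoh.const X ℤ)).obj.map _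
    (((EtCoh.pull h).obj (EtCoh.const X ℤ)).obj.map _ z)) hd).trans ?_
  simp only [map_map]
  have := subsingleton_hom_bcTop h (EtCoh.top W)
  exact congrArg (fun k => ((EtCoh.pull h).obj (EtCoh.const X ℤ)).obj.map (Quiver.Hom.op k)
    (unitSect h _ (EtCoh.top X) (oneSect (𝟙 _)))) (Subsingleton.elim _ _)

/-- Compatibility of the constant sheaf identifications with composition. -/
theorem pullConst_comp (f : W ⟶ U) (j : U ⟶ X) (h : W ⟶ X) (w : f ≫ j = h) :
    (EtCore.pullConst f M).inv ≫ (EtCoh.pull f).map (EtCore.pullConst j M).inv ≫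
      (((EtCore.pullComp f j).symm ≪≫ EtCore.pullCongr w).app (EtCoh.const X M)).hom =
      (EtCore.pullConst h M).inv := by
  set η := ((EtCore.pullComp f j).symm ≪≫ EtCore.pullCongr w).hom
  refine const_hom_ext fun g => ?_
  have n1 := (EtCore.pullConstIso f).inv.naturality g
  have n2 := (EtCore.pullConstIso j).inv.naturality g
  have n3 := η.naturality ((cSh X).map g)
  have n4 := (EtCore.pullConstIso h).inv.naturality g
  have hz := pullConst_comp_int f j h w
  show (cSh W).map g ≫ (EtCore.pullConstIso f).inv.app _ ≫ (EtCoh.pull f).map ((EtCore.pullConstIso j).inv.app _) ≫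
      η.app ((cSh X).obj _) = (cSh W).map g ≫ (EtCore.pullConstIso h).inv.app _
  dsimp only [Functor.comp_map, Functor.comp_obj] at n1 n2 n3 n4
  rw [reassoc_of% n1, ← Functor.map_comp_assoc, n2, Functor.map_comp_assoc, n3, n4]
  exact (congrArg (fun z => (EtCore.pullConst f ℤ).inv ≫ z) (Category.assoc _ _ _).symm).trans
    (((Category.assoc _ _ _).symm).trans (congrArg (fun z => z ≫ (EtCoh.pull h).map ((cSh X).map g))
      ((congrArg (fun z => (EtCore.pullConst f ℤ).inv ≫ z) rfl).trans hz)))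

theorem map_pullConst_comp (f : W ⟶ U) (j : U ⟶ X) (h : W ⟶ X) (w : f ≫ j = h) :
    (EtCoh.pull f).map (EtCore.pullConst j M).hom ≫ (EtCore.pullConst f M).hom =
      (((EtCore.pullComp f j).symm ≪≫ EtCore.pullCongr w).app (EtCoh.const X M)).hom ≫
        (EtCore.pullConst h M).hom := by
  rw [← Iso.comp_inv_eq, ← pullConst_comp M f j h w]
  simp only [Category.assoc, Iso.hom_inv_id_assoc, ← Functor.map_comp_assoc, Iso.hom_inv_id,
    CategoryTheory.Functor.map_id, Category.id_comp]

variable [hP : Fact FinFr.PullExact.{u}]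

/-- Pullback with constant coefficients. -/
def cPull (f : W ⟶ U) (n : ℕ) : EtCoh.H U (EtCoh.const U M) n →+ EtCoh.H W (EtCoh.const W M) n :=
  haveI := FinFr.pullExact_out f
  (Sheaf.H.map (EtCore.pullConst f M).hom n).comp (EtCore.Hpull f (EtCoh.const U M) n)

theorem hpull_comp (f : W ⟶ U) (j : U ⟶ X) (h : W ⟶ X) (w : f ≫ j = h)
    [PreservesFiniteLimits (EtCoh.pull f)] [PreservesFiniteLimits (EtCoh.pull j)]
    [PreservesFiniteLimits (EtCoh.pull h)] (F : EtCoh.Ab X) (n : ℕ) (e : EtCoh.H X F n) :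
    EtCore.HpullVia f j h w F n (EtCore.Hpull j F n e) = EtCore.Hpull h F n e := by
  have hn := mapExt_natural (EtCoh.pull j) (EtCoh.pull f) (EtCoh.pull h)
    ((EtCore.pullComp f j).symm ≪≫ EtCore.pullCongr w).hom n e
  change ((Ext.mk₀ (EtCore.pullConst f ℤ).inv).comp
    (((Ext.mk₀ (EtCore.pullConst j ℤ).inv).comp (e.mapExactFunctor (EtCoh.pull j)) (zero_add n)).mapExactFunctor
      (EtCoh.pull f)) (zero_add n)).comp (Ext.mk₀ _) (add_zero n) =
    (Ext.mk₀ (EtCore.pullConst h ℤ).inv).comp (e.mapExactFunctor (EtCoh.pull h)) (zero_add n)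
  rw [Ext.comp_assoc_of_third_deg_zero, Ext.mapExactFunctor_comp, Ext.mapExactFunctor_mk₀,
    Ext.comp_assoc_of_third_deg_zero]
  refine (congrArg (fun z => (Ext.mk₀ (EtCore.pullConst f ℤ).inv).comp
    ((Ext.mk₀ ((EtCoh.pull f).map (EtCore.pullConst j ℤ).inv)).comp z (zero_add n)) (zero_add n)) hn).trans ?_
  rw [Ext.mk₀_comp_mk₀_assoc, Ext.mk₀_comp_mk₀_assoc]
  exact congrArg (fun z => (Ext.mk₀ z).comp (e.mapExactFunctor (EtCoh.pull h)) (zero_add n))
    ((Category.assoc _ _ _).trans (pullConst_comp_int f j h w))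

/-- Pullbacks with constant coefficients compose. -/
theorem cPull_comp (f : W ⟶ U) (j : U ⟶ X) (h : W ⟶ X) (w : f ≫ j = h) (n : ℕ)
    (x : EtCoh.H X (EtCoh.const X M) n) :
    cPull M f n (cPull M j n x) = cPull M h n x := by
  have := FinFr.pullExact_out f
  have := FinFr.pullExact_out j
  have := FinFr.pullExact_out h
  show Sheaf.H.map _ n (EtCore.Hpull f _ n (Sheaf.H.map _ n (EtCore.Hpull j _ n x))) =
    Sheaf.H.map _ n (EtCore.Hpull h _ n x)
  rw [EtCore.Hpull_natural, ← Sheaf.H.map_comp_apply, map_pullConst_comp M f j h w, Sheaf.H.map_comp_apply]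
  exact congrArg _ (hpull_comp f j h w _ n x)

variable (p : ℕ) [Fact p.Prime]

theorem pullConst_frob [FrobSch.IsCharP X p] :
    (EtCore.pullConst (FrobSch.frob X p) M).hom = frStar p (EtCoh.const X M) := by
  rw [← cancel_epi (EtCore.pullConst (FrobSch.frob X p) M).inv, Iso.inv_hom_id]
  refine const_hom_ext fun g => ?_
  have n1 := (EtCore.pullConstIso (FrobSch.frob X p)).inv.naturality g
  have n2 := frStar_naturality p ((cSh X).map g)
  dsimp only [Functor.comp_map, Functor.comp_obj] at n1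
  show (cSh X).map g ≫ 𝟙 _ = (cSh X).map g ≫ (EtCore.pullConstIso (FrobSch.frob X p)).inv.app _ ≫ _
  rw [reassoc_of% n1]
  refine Eq.trans ?_ (congrArg (fun z => (EtCore.pullConst (FrobSch.frob X p) ℤ).inv ≫ z) n2).symm
  have hz : (EtCore.pullConst (FrobSch.frob X p) ℤ).inv ≫ frStar p (EtCoh.const X ℤ) = 𝟙 _ := by
    refine (oneSect_bijective _).1 ?_
    show oneSect _ = oneSect _
    have := FinFr.pullExact_out (FrobSch.frob X p)
    have hpc : oneSect (EtCore.pullConst (FrobSch.frob X p) ℤ).inv =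
        ((EtCoh.pull (FrobSch.frob X p)).obj (EtCoh.const X ℤ)).obj.map (EtCore.bcTopIso (FrobSch.frob X p)).inv.op
          (unitSect (FrobSch.frob X p) _ (EtCoh.top X) (oneSect (𝟙 (EtCoh.const X ℤ)))) := by
      rw [← oneSect_pull, CategoryTheory.Functor.map_id, Category.comp_id]
    rw [oneSect_comp, hpc, frStar]
    refine (app_map _ _ _).trans ?_
    rw [EtLim45.adj_unitSect]
    refine (map_map (EtCoh.const X ℤ) _ _ _).trans (map_endo _ _ ?_ _)
    exact (EtCore.topIsTerminal X).hom_ext _ _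
  exact (Category.comp_id _).trans ((Category.id_comp _).symm.trans
    ((congrArg (fun z => z ≫ (cSh X).map g) hz).symm.trans (Category.assoc _ _ _)))

theorem cPull_frob [FrobSch.IsCharP X p] (n : ℕ) (x : EtCoh.H X (EtCoh.const X M) n) :
    cPull M (FrobSch.frob X p) n x = x := by
  have := FinFr.pullExact_out (FrobSch.frob X p)
  show Sheaf.H.map _ n (EtCore.Hpull (FrobSch.frob X p) _ n x) = x
  rw [pullConst_frob]
  exact hpullThen_frStar p n _ x

/-- Iterated absolute Frobenius. -/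
def frobPow (Y : Scheme.{u}) [FrobSch.IsCharP Y p] : ℕ → (Y ⟶ Y)
  | 0 => 𝟙 Y
  | e + 1 => frobPow Y e ≫ FrobSch.frob Y p

theorem frobPow_comp {Y Z : Scheme.{u}} [FrobSch.IsCharP Y p] [FrobSch.IsCharP Z p] (f : Y ⟶ Z) :
    ∀ e, frobPow p Y e ≫ f = f ≫ frobPow p Z e
  | 0 => by simp [frobPow]
  | e + 1 => by
    rw [frobPow, frobPow, Category.assoc, FrobSch.frob_comp, ← Category.assoc, frobPow_comp f e, Category.assoc]

theorem frobPow_appTop {Y : Scheme.{u}} [FrobSch.IsCharP Y p] :
    ∀ (e : ℕ) (s : Γ(Y, ⊤)), (frobPow p Y e).appTop s = s ^ p ^ e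
  | 0, s => by simp [frobPow]
  | e + 1, s => by
    show (frobPow p Y e).appTop ((FrobSch.frob Y p).appTop s) = _
    rw [FrobSch.frob_appTop, frobPow_appTop e, ← pow_mul, pow_succ']

theorem cPull_id [FrobSch.IsCharP X p] (n : ℕ) (x : EtCoh.H X (EtCoh.const X M) n) :
    cPull M (𝟙 X) n x = x := by
  have h := cPull_comp M (𝟙 X) (FrobSch.frob X p) (FrobSch.frob X p) (Category.id_comp _) n x
  rwa [cPull_frob] at h

theorem cPull_frobPow [FrobSch.IsCharP X p] (n : ℕ) :
    ∀ (e : ℕ) (x : EtCoh.H X (EtCoh.const X M) n), cPull M (frobPow p X e) n x = x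
  | 0, x => cPull_id M p n x
  | e + 1, x => by
    rw [← cPull_comp M (frobPow p X e) (FrobSch.frob X p) (frobPow p X (e + 1)) rfl n x, cPull_frob,
      cPull_frobPow n e x]

end Groth.Agent.An92.FrobCorr
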