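import Groth.Prelude.Def_Frob
import Groth.Prelude.Def_EtLim
import Groth.Agent.EtLim45.Then
import Groth.Agent.Var76.FrobHomeo
import Groth.Agent.Sga84.Epi

/-! The Frobenius correspondence acts trivially on cohomology. -/

set_option autoImplicit false
set_option backward.isDefEq.respectTransparency.types false

universe u

open CategoryTheory CategoryTheory.Limits CategoryTheory.Abelian AlgebraicGeometry Opposite

noncomputable section

namespace Groth.Agent.An92.FrobCorr

variable (p : ℕ) [Fact p.Prime]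

/-- A morphism which is the identity on points and raises sections to the `p`th power is the Frobenius. -/
theorem eq_frob {W : Scheme.{u}} [FrobSch.IsCharP W p] (φ : W ⟶ W) (hb : ∀ x : W, φ.base x = x)
    (ho : ∀ V : W.Opens, φ ⁻¹ᵁ V = V)
    (hc : ∀ (V : W.Opens) (s : Γ(W, V)), φ.app V s = W.presheaf.map (eqToHom (ho V)).op (s ^ p)) :
    φ = FrobSch.frob W p := by
  refine Scheme.Hom.ext (TopCat.ext fun x => hb x) fun V => ?_
  ext s
  show W.presheaf.map _ (φ.app V s) = s ^ p
  rw [hc, ← ConcreteCategory.comp_apply, ← Functor.map_comp]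
  show W.presheaf.map (𝟙 _) (s ^ p) = s ^ p
  rw [W.presheaf.map_id]
  rfl

variable {X : Scheme.{u}} [FrobSch.IsCharP X p]

instance isCharP_fromPUnit (r : Discrete PUnit.{1}) : FrobSch.IsCharP ((Functor.fromPUnit X).obj r) p :=
  inferInstanceAs (FrobSch.IsCharP X p)

/-- The relative Frobenius of an etale scheme as a morphism in the etale site. -/
def relFr (U : X.Etale) : U ⟶ (EtCoh.bc (FrobSch.frob X p)).obj U :=
  MorphismProperty.Over.homMk (FrobSch.relFrob U.hom p) (FrobSch.relFrob_snd U.hom p)

instance isIso_relFr (U : X.Etale) : IsIso (relFr p U) := by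
  have h2 := (UH57.isUnivHomeo_iff' _).mp (Var76.FrobHomeo.relFrob_isUnivHomeo p U.hom)
  have : Etale U.hom := U.prop
  have : Etale (pullback.snd U.hom (FrobSch.frob X p)) := MorphismProperty.pullback_snd _ _ ‹_›
  have : Etale (FrobSch.relFrob U.hom p ≫ pullback.snd U.hom (FrobSch.frob X p)) := by
    rw [FrobSch.relFrob_snd]; infer_instance
  have : Etale (FrobSch.relFrob U.hom p) := Etale.of_comp _ (pullback.snd U.hom (FrobSch.frob X p))
  have : UniversallyInjective (FrobSch.relFrob U.hom p) := h2.2.1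
  have : Surjective (FrobSch.relFrob U.hom p) := h2.2.2
  have : IsOpenImmersion (FrobSch.relFrob U.hom p) := Sga84.isOpenImmersion_of_etale _
  have : IsIso (FrobSch.relFrob U.hom p) :=
    (isIso_iff_isOpenImmersion_and_epi_base _).2 ⟨inferInstance,
      (TopCat.epi_iff_surjective _).2 (FrobSch.relFrob U.hom p).surjective⟩
  exact ((MorphismProperty.Over.isoMk (@asIso _ _ _ _ (FrobSch.relFrob U.hom p) ‹_›)
    (FrobSch.relFrob_snd U.hom p) : U ≅ (EtCoh.bc (FrobSch.frob X p)).obj U)).isIso_hom

theorem relFr_naturality {U V : X.Etale} (g : U ⟶ V) :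
    g ≫ relFr p V = relFr p U ≫ (EtCoh.bc (FrobSch.frob X p)).map g := by
  have iU : FrobSch.IsCharP U.left p := FrobSch.IsCharP.of_hom U.hom p
  have iV : FrobSch.IsCharP V.left p := FrobSch.IsCharP.of_hom V.hom p
  refine MorphismProperty.Over.Hom.ext ?_
  let π := pullback.fst U.hom (FrobSch.frob X p)
  let π' := pullback.snd U.hom (FrobSch.frob X p)
  have h1 : ((EtCoh.bc (FrobSch.frob X p)).map g).left ≫ pullback.fst V.hom (FrobSch.frob X p) = π ≫ g.left :=
    pullback.lift_fst _ _ _
  have h2 : ((EtCoh.bc (FrobSch.frob X p)).map g).left ≫ pullback.snd V.hom (FrobSch.frob X p) = π' :=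
    pullback.lift_snd _ _ _
  apply pullback.hom_ext
  · refine (Category.assoc g.left (FrobSch.relFrob V.hom p) _).trans ?_
    refine ((congrArg (g.left ≫ ·) (@FrobSch.relFrob_fst _ _ V.hom p _ _ iV)).trans (FrobSch.frob_comp p g.left).symm).trans ?_
    refine Eq.trans ?_ (Category.assoc (FrobSch.relFrob U.hom p) _ _).symm
    refine Eq.trans ?_ (congrArg (FrobSch.relFrob U.hom p ≫ ·) h1).symm
    exact ((congrArg (· ≫ g.left) (@FrobSch.relFrob_fst _ _ U.hom p _ _ iU)).symm).trans (Category.assoc _ _ _)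
  · refine (Category.assoc g.left (FrobSch.relFrob V.hom p) _).trans ?_
    refine ((congrArg (g.left ≫ ·) (FrobSch.relFrob_snd V.hom p)).trans (MorphismProperty.Over.w g)).trans ?_
    refine Eq.trans ?_ (Category.assoc (FrobSch.relFrob U.hom p) _ _).symm
    exact ((congrArg (FrobSch.relFrob U.hom p ≫ ·) h2).trans (FrobSch.relFrob_snd U.hom p)).symm

/-- The adjunct of the Frobenius correspondence. -/
def frAdj (G : EtCoh.Ab X) : G ⟶ (EtCoh.push (FrobSch.frob X p)).obj G :=
  ⟨{ app := fun U => G.obj.map (inv (relFr p U.unop)).op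
     naturality := fun U V g => by
      show G.obj.map g ≫ G.obj.map (inv (relFr p V.unop)).op =
        G.obj.map (inv (relFr p U.unop)).op ≫ G.obj.map ((EtCoh.bc (FrobSch.frob X p)).map g.unop).op
      rw [← Functor.map_comp, ← Functor.map_comp]
      refine congrArg G.obj.map (Quiver.Hom.unop_inj ?_)
      show inv (relFr p V.unop) ≫ g.unop = (EtCoh.bc (FrobSch.frob X p)).map g.unop ≫ inv (relFr p U.unop)
      rw [IsIso.inv_comp_eq, ← Category.assoc, IsIso.eq_comp_inv]
      exact relFr_naturality p g.unop }⟩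

theorem frAdj_naturality {G G' : EtCoh.Ab X} (v : G ⟶ G') :
    v ≫ frAdj p G' = frAdj p G ≫ (EtCoh.push (FrobSch.frob X p)).map v := by
  ext U : 3
  exact (v.hom.naturality _).symm

/-- The Frobenius correspondence. -/
def frStar (G : EtCoh.Ab X) : (EtCoh.pull (FrobSch.frob X p)).obj G ⟶ G :=
  ((EtCoh.pullPushAdj (FrobSch.frob X p)).homEquiv G G).symm (frAdj p G)

theorem frStar_naturality {G G' : EtCoh.Ab X} (v : G ⟶ G') :
    (EtCoh.pull (FrobSch.frob X p)).map v ≫ frStar p G' = frStar p G ≫ v := by
  rw [frStar, frStar, ← Adjunction.homEquiv_naturality_left_symm, frAdj_naturality,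
    Adjunction.homEquiv_naturality_right_symm]

variable [PreservesFiniteLimits (EtCoh.pull (FrobSch.frob X p))]

theorem hpullThen_frStar (n : ℕ) : ∀ (G : EtCoh.Ab X) (x : EtCoh.H X G n),
    EtLim.HpullThen (FrobSch.frob X p) G (frStar p G) n x = x := by
  induction n with
  | zero =>
    intro G x
    refine (EtLim45.sect0_bijective G).1 ?_
    rw [frStar, EtLim45.sect0_HpullThen]
    show G.obj.map _ (G.obj.map (inv (relFr p (EtCoh.top X))).op _) = _
    rw [← ConcreteCategory.comp_apply, ← Functor.map_comp, ← op_comp,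
      show (EtCore.bcTopIso (FrobSch.frob X p)).inv ≫ inv (relFr p (EtCoh.top X)) = 𝟙 _ from
        (EtCore.topIsTerminal X).hom_ext _ _, op_id, CategoryTheory.Functor.map_id]
    rfl
  | succ n ih =>
    intro G x
    let S : ShortComplex (EtCoh.Ab X) :=
      ShortComplex.mk (Injective.ι G) (cokernel.π _) (cokernel.condition _)
    have hS : S.ShortExact := { exact := ShortComplex.exact_cokernel _ }
    have : Injective S.X₂ := inferInstanceAs (Injective (Injective.under G))
    obtain ⟨y, hy⟩ := Ext.covariant_sequence_exact₁ (EtCoh.const X ℤ) hS x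
      (Ext.eq_zero_of_injective _) rfl
    let φ : S.map (EtCoh.pull (FrobSch.frob X p)) ⟶ S :=
      { τ₁ := frStar p S.X₁
        τ₂ := frStar p S.X₂
        τ₃ := frStar p S.X₃
        comm₁₂ := (frStar_naturality p S.f).symm
        comm₂₃ := (frStar_naturality p S.g).symm }
    have h := EtLim45.HpullThen_extClass (FrobSch.frob X p) hS hS φ rfl y
    rw [hy, ih S.X₃ y, hy] at h
    exact h

end Groth.Agent.An92.FrobCorr
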